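import Cfsg.Agent.H16.T.ON.D

/-! Generated by tools/h16 (computation kit). -/

set_option maxRecDepth 100000
set_option maxHeartbeats 0

namespace H16.TON

open H26 (jn)
theorem sl0 : slChk H16.PON.T 17 (nth [] Ws 0) (nth (BT.leaf 0) Ts 0) = true := by decide +kernel
theorem sl1 : slChk H16.PON.T 17 (nth [] Ws 1) (nth (BT.leaf 0) Ts 1) = true := by decide +kernel
theorem sl2 : slChk H16.PON.T 17 (nth [] Ws 2) (nth (BT.leaf 0) Ts 2) = true := by decide +kernel
theorem sl3 : slChk H16.PON.T 17 (nth [] Ws 3) (nth (BT.leaf 0) Ts 3) = true := by decide +kernel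
theorem sl4 : slChk H16.PON.T 17 (nth [] Ws 4) (nth (BT.leaf 0) Ts 4) = true := by decide +kernel
theorem sl5 : slChk H16.PON.T 17 (nth [] Ws 5) (nth (BT.leaf 0) Ts 5) = true := by decide +kernel
theorem sl6 : slChk H16.PON.T 17 (nth [] Ws 6) (nth (BT.leaf 0) Ts 6) = true := by decide +kernel
theorem sl7 : slChk H16.PON.T 17 (nth [] Ws 7) (nth (BT.leaf 0) Ts 7) = true := by decide +kernel
theorem sl8 : slChk H16.PON.T 17 (nth [] Ws 8) (nth (BT.leaf 0) Ts 8) = true := by decide +kernel
theorem sl9 : slChk H16.PON.T 17 (nth [] Ws 9) (nth (BT.leaf 0) Ts 9) = true := by decide +kernel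
theorem hd : H16.PON.T.n ≤ 2 ^ 17 ∧ 17 < 256 ∧ nat_lit 0x10000000000000000000000000000000000000000000000000000000000000001000000000000000000000000000000000000000000000000000000000000000100000000000000000000000000000000000000000000000000000000000000010000000000000000000000000000000000000000000000000000000000000001000000000000000000000000000000000000000000000000000000000000000100000000000000000000000000000000000000000000000000000000000000010000000000000000000000000000000000000000000000000000000000000001000000000000000000000000000000000000000000000000000000000000000100000000000000000000000000000000000000000000000000000000000000010000000000000000000000000000000000000000000000000000000000000001000000000000000000000000000000000000000000000000000000000000000100000000000000000000000000000000000000000000000000000000000000010000000000000000000000000000000000000000000000000000000000000001000000000000000000000000000000000000000000000000000000000000000100000000000000000000000000000000000000000000000000000000000000010000000000000000000000000000000000000000000000000000000000000001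 = geo 256 17 := by decide +kernel
theorem sg : allL (ltAll 8) Ws = true ∧ 8 ≤ 10 ∧ ∀ k < 8, nth [] Ws k = [k] := by decide +kernel
theorem Blt : ltAll 122760 B = 0 := by decide +kernel
theorem sg0 : allL (ltAll 10) (lv0 0).Ws = true ∧ 10 ≤ 10 ∧ ∀ k < 10, nth [] (lv0 0).Ws k = [k] := by decide +kernel
theorem o1_0 : Nat.beq (loop2 ((lv1 0).scan P) 0 (nat_lit 76352)) (nat_lit 3643) = true := by decide +kernel
theorem o1_76352 : Nat.beq (loop2 ((lv1 0).scan P) (nat_lit 76352) (nat_lit 46408)) (nat_lit 1943) = true := by decide +kernel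
theorem o2c : 0 < (lv2 0).K ∧ allL (ltAll 10) (lv2 0).Ws = true ∧ [nat_lit 122727, nat_lit 122589, nat_lit 122588, nat_lit 122369, nat_lit 122344, nat_lit 122063, nat_lit 122061, nat_lit 122038, nat_lit 122024, nat_lit 122023, nat_lit 121952, nat_lit 121912, nat_lit 121911, nat_lit 121898, nat_lit 121762, nat_lit 121450, nat_lit 121438, nat_lit 120950, nat_lit 120872, nat_lit 120871, nat_lit 120834, nat_lit 120833, nat_lit 120829, nat_lit 120820, nat_lit 120431, nat_lit 120376, nat_lit 120370, nat_lit 120164, nat_lit 119883, nat_lit 119870, nat_lit 119801, nat_lit 119779, nat_lit 119778, nat_lit 119776, nat_lit 119364, nat_lit 119363, nat_lit 119362, nat_lit 119359, nat_lit 119005, nat_lit 118914, nat_lit 118761, nat_lit 118760, nat_lit 118156, nat_lit 118155, nat_lit 117626, nat_lit 117625, nat_lit 117619, nat_lit 117611, nat_lit 117592, nat_lit 117457, nat_lit 117447, nat_lit 117359, nat_lit 117344, nat_lit 117343, nat_lit 117342, nat_lit 117330, nat_lit 117316, nat_lit 117281, nat_lit 117280, nat_lit 117278, nat_lit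 117273, nat_lit 117272, nat_lit 117271, nat_lit 117270, nat_lit 117269, nat_lit 117148, nat_lit 117129, nat_lit 117107, nat_lit 117106, nat_lit 117100, nat_lit 117090, nat_lit 117089, nat_lit 117088, nat_lit 117062, nat_lit 117044, nat_lit 117031, nat_lit 117030, nat_lit 117028, nat_lit 117019, nat_lit 117018, nat_lit 116928, nat_lit 116898, nat_lit 116897, nat_lit 116895, nat_lit 116893, nat_lit 116822, nat_lit 116817, nat_lit 116816, nat_lit 116815, nat_lit 116814, nat_lit 116804, nat_lit 116803, nat_lit 116559, nat_lit 116518, nat_lit 116143, nat_lit 116142, nat_lit 116089, nat_lit 116050, nat_lit 116049, nat_lit 115502, nat_lit 115455, nat_lit 115454, nat_lit 114836, nat_lit 114570, nat_lit 114565, nat_lit 114493, nat_lit 114492, nat_lit 114154, nat_lit 114153, nat_lit 113894, nat_lit 113893, nat_lit 113892, nat_lit 113886, nat_lit 113795, nat_lit 113762, nat_lit 113734, nat_lit 113733, nat_lit 113726, nat_lit 113725, nat_lit 113568, nat_lit 113460, nat_lit 113394, nat_lit 113350, nat_lit 113311, nat_lit 113310, nat_lit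 113301, nat_lit 113300, nat_lit 113242, nat_lit 113241, nat_lit 113230, nat_lit 113226, nat_lit 112773, nat_lit 112533, nat_lit 112362, nat_lit 112359, nat_lit 112358, nat_lit 112357, nat_lit 112356, nat_lit 112093, nat_lit 111622, nat_lit 110333, nat_lit 110321, nat_lit 110297, nat_lit 110259, nat_lit 110256, nat_lit 110255, nat_lit 110156, nat_lit 110155, nat_lit 110050, nat_lit 110049, nat_lit 109908, nat_lit 109882, nat_lit 109881, nat_lit 109731, nat_lit 109483, nat_lit 109482, nat_lit 109477, nat_lit 109198, nat_lit 109197, nat_lit 109186, nat_lit 108984, nat_lit 108983, nat_lit 108980, nat_lit 108979, nat_lit 108978, nat_lit 108947, nat_lit 108946, nat_lit 108941, nat_lit 108940, nat_lit 108939, nat_lit 108902, nat_lit 108899, nat_lit 108656, nat_lit 107922, nat_lit 107548, nat_lit 107523, nat_lit 107522, nat_lit 107460, nat_lit 107459, nat_lit 107458, nat_lit 105498, nat_lit 105497, nat_lit 105371, nat_lit 105370, nat_lit 105369, nat_lit 105325, nat_lit 105304, nat_lit 105303, nat_lit 105291, nat_lit 105290, nat_lit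 105248, nat_lit 105247, nat_lit 105079, nat_lit 105026, nat_lit 104608, nat_lit 104287, nat_lit 103853, nat_lit 103850, nat_lit 103841, nat_lit 102517, nat_lit 102516, nat_lit 102382, nat_lit 102381, nat_lit 102217, nat_lit 102216, nat_lit 102124, nat_lit 102112, nat_lit 102111, nat_lit 102106, nat_lit 102105, nat_lit 102040, nat_lit 102039, nat_lit 102031, nat_lit 101968, nat_lit 101959, nat_lit 101938, nat_lit 101850, nat_lit 101029, nat_lit 101028, nat_lit 101026, nat_lit 100812, nat_lit 100811, nat_lit 100561, nat_lit 100559, nat_lit 100512, nat_lit 100507, nat_lit 100505, nat_lit 100504, nat_lit 100443, nat_lit 100442, nat_lit 100374, nat_lit 100373, nat_lit 100206, nat_lit 100205, nat_lit 100204, nat_lit 99713, nat_lit 98505, nat_lit 98453, nat_lit 98452, nat_lit 98450, nat_lit 98449, nat_lit 98424, nat_lit 98422, nat_lit 98288, nat_lit 98287, nat_lit 98277, nat_lit 98276, nat_lit 98275, nat_lit 98274, nat_lit 98092, nat_lit 98091, nat_lit 98078, nat_lit 98077, nat_lit 98059, nat_lit 97992, nat_lit 97985, nat_lit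 97977, nat_lit 97976, nat_lit 97670, nat_lit 97669, nat_lit 97374, nat_lit 96816, nat_lit 96815, nat_lit 96814, nat_lit 96812, nat_lit 96811, nat_lit 96805, nat_lit 96355, nat_lit 95976, nat_lit 95152, nat_lit 95058, nat_lit 95011, nat_lit 95010, nat_lit 94950, nat_lit 94949, nat_lit 94948, nat_lit 94862, nat_lit 94861, nat_lit 94860, nat_lit 94836, nat_lit 94835, nat_lit 94504, nat_lit 94422, nat_lit 94421, nat_lit 94420, nat_lit 94363, nat_lit 94362, nat_lit 93825, nat_lit 93824, nat_lit 93375, nat_lit 93374, nat_lit 92515, nat_lit 92514, nat_lit 92399, nat_lit 92398, nat_lit 91835, nat_lit 91834, nat_lit 91833, nat_lit 91761, nat_lit 91760, nat_lit 91115, nat_lit 91106, nat_lit 91105, nat_lit 91074, nat_lit 91073, nat_lit 91024, nat_lit 91023, nat_lit 91021, nat_lit 90935, nat_lit 90934, nat_lit 90928, nat_lit 90927, nat_lit 90828, nat_lit 90819, nat_lit 90809, nat_lit 90808, nat_lit 90735, nat_lit 90734, nat_lit 90698, nat_lit 90630, nat_lit 90629, nat_lit 90605, nat_lit 90574, nat_lit 90537, nat_lit 90505, nat_lit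 90504, nat_lit 90470, nat_lit 90469, nat_lit 90467, nat_lit 90465, nat_lit 90463, nat_lit 90363, nat_lit 90362, nat_lit 90355, nat_lit 90354, nat_lit 90328, nat_lit 90234, nat_lit 90160, nat_lit 90159, nat_lit 90026, nat_lit 89988, nat_lit 89987, nat_lit 89975, nat_lit 89974, nat_lit 89970, nat_lit 89967, nat_lit 89966, nat_lit 89963, nat_lit 89418, nat_lit 89415, nat_lit 89414, nat_lit 89225, nat_lit 88349, nat_lit 88326, nat_lit 88325, nat_lit 88269, nat_lit 88268, nat_lit 88173, nat_lit 87019, nat_lit 87017, nat_lit 86944, nat_lit 86943, nat_lit 86410, nat_lit 86268, nat_lit 86267, nat_lit 85653, nat_lit 85652, nat_lit 85377, nat_lit 85372, nat_lit 85371, nat_lit 83987, nat_lit 83983, nat_lit 83982, nat_lit 83981, nat_lit 83980, nat_lit 83977, nat_lit 83665, nat_lit 83664, nat_lit 83613, nat_lit 83596, nat_lit 83595, nat_lit 83237, nat_lit 82892, nat_lit 82891, nat_lit 82664, nat_lit 82663, nat_lit 82661, nat_lit 82660, nat_lit 82657, nat_lit 82574, nat_lit 82559, nat_lit 82558, nat_lit 82466, nat_lit 82458, nat_lit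 81595, nat_lit 81586, nat_lit 80495, nat_lit 80494, nat_lit 80166, nat_lit 80165, nat_lit 80164, nat_lit 80163, nat_lit 80124, nat_lit 76626, nat_lit 76625, nat_lit 76624, nat_lit 76330, nat_lit 76329, nat_lit 76328, nat_lit 76307, nat_lit 75890, nat_lit 75889, nat_lit 75888, nat_lit 75887, nat_lit 75492, nat_lit 75491, nat_lit 75485, nat_lit 75484, nat_lit 75105, nat_lit 75104, nat_lit 74788, nat_lit 74787, nat_lit 74786, nat_lit 74739, nat_lit 74738, nat_lit 74735, nat_lit 74678, nat_lit 74491, nat_lit 74490, nat_lit 74235, nat_lit 73328, nat_lit 72384, nat_lit 72383, nat_lit 72343, nat_lit 72342, nat_lit 72231, nat_lit 72228, nat_lit 72227, nat_lit 72224, nat_lit 72223, nat_lit 72093, nat_lit 72092, nat_lit 71908, nat_lit 71907, nat_lit 71395, nat_lit 71394, nat_lit 71393, nat_lit 71378, nat_lit 69703, nat_lit 69702, nat_lit 69532, nat_lit 69531, nat_lit 69460, nat_lit 69459, nat_lit 68342, nat_lit 68341, nat_lit 68340, nat_lit 67751, nat_lit 67729, nat_lit 67728, nat_lit 67139, nat_lit 65906, nat_lit 65898, nat_lit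 65897, nat_lit 65282, nat_lit 65281, nat_lit 65279, nat_lit 65276, nat_lit 65061, nat_lit 64922, nat_lit 64921, nat_lit 64919, nat_lit 64918, nat_lit 64440, nat_lit 64439, nat_lit 64437, nat_lit 64436, nat_lit 64432, nat_lit 64428, nat_lit 64427, nat_lit 64378, nat_lit 64377, nat_lit 64375, nat_lit 64374, nat_lit 64373, nat_lit 64187, nat_lit 64186, nat_lit 63812, nat_lit 63811, nat_lit 61956, nat_lit 61896, nat_lit 61895, nat_lit 61746, nat_lit 61745, nat_lit 61744, nat_lit 61743, nat_lit 61457, nat_lit 61456, nat_lit 61453, nat_lit 61450, nat_lit 61443, nat_lit 61442, nat_lit 60850, nat_lit 60849, nat_lit 60457, nat_lit 60456, nat_lit 60454, nat_lit 60453, nat_lit 60448, nat_lit 60447, nat_lit 60434, nat_lit 60433, nat_lit 59999, nat_lit 59998, nat_lit 59997, nat_lit 58223, nat_lit 58222, nat_lit 58155, nat_lit 58154, nat_lit 57807, nat_lit 57806, nat_lit 57654, nat_lit 57616, nat_lit 57163, nat_lit 57128, nat_lit 57127, nat_lit 57060, nat_lit 57059, nat_lit 56682, nat_lit 56341, nat_lit 55594, nat_lit 55593, nat_lit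 55436, nat_lit 55435, nat_lit 55381, nat_lit 55380, nat_lit 54764, nat_lit 54561, nat_lit 54560, nat_lit 54502, nat_lit 54501, nat_lit 54376, nat_lit 54375, nat_lit 54374, nat_lit 54372, nat_lit 54371, nat_lit 54370, nat_lit 54270, nat_lit 54269, nat_lit 54165, nat_lit 54164, nat_lit 54019, nat_lit 54017, nat_lit 54016, nat_lit 54015, nat_lit 53611, nat_lit 53609, nat_lit 53608, nat_lit 53603, nat_lit 51714, nat_lit 51713, nat_lit 50508, nat_lit 50507, nat_lit 50503, nat_lit 49492, nat_lit 49489, nat_lit 49488, nat_lit 49487, nat_lit 49485, nat_lit 49484, nat_lit 49483, nat_lit 48295, nat_lit 48294, nat_lit 48022, nat_lit 48021, nat_lit 48019, nat_lit 48018, nat_lit 47888, nat_lit 47885, nat_lit 47826, nat_lit 47825, nat_lit 45992, nat_lit 45991, nat_lit 45952, nat_lit 45951, nat_lit 45950, nat_lit 45543, nat_lit 45542, nat_lit 43099, nat_lit 43098, nat_lit 42896, nat_lit 42595, nat_lit 42594, nat_lit 42593, nat_lit 42592, nat_lit 41820, nat_lit 41777, nat_lit 40021, nat_lit 40020, nat_lit 39894, nat_lit 39893, nat_lit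 39890, nat_lit 39782, nat_lit 39781, nat_lit 39370, nat_lit 39369, nat_lit 37571, nat_lit 37570, nat_lit 37096, nat_lit 37095, nat_lit 36854, nat_lit 36853, nat_lit 36146, nat_lit 36145, nat_lit 36141, nat_lit 35783, nat_lit 35782, nat_lit 35781, nat_lit 35779, nat_lit 35778, nat_lit 35777, nat_lit 35557, nat_lit 35556, nat_lit 35274, nat_lit 35273, nat_lit 35271, nat_lit 35270, nat_lit 35244, nat_lit 35243, nat_lit 33506, nat_lit 33505, nat_lit 33374, nat_lit 33373, nat_lit 33183, nat_lit 33182, nat_lit 33181, nat_lit 33177, nat_lit 32636, nat_lit 32635, nat_lit 32633, nat_lit 32632, nat_lit 32336, nat_lit 32335, nat_lit 30359, nat_lit 30358, nat_lit 29461, nat_lit 29460, nat_lit 28710, nat_lit 28709, nat_lit 28522, nat_lit 28521, nat_lit 28301, nat_lit 28300, nat_lit 26666, nat_lit 26087, nat_lit 26086, nat_lit 24987, nat_lit 24986, nat_lit 24921, nat_lit 23768, nat_lit 23767, nat_lit 21649, nat_lit 21648, nat_lit 20230, nat_lit 18459, nat_lit 18257, nat_lit 18256, nat_lit 17971, nat_lit 17970, nat_lit 16748, nat_lit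 16478, nat_lit 16477].length = (lv2 0).n ∧ (lv2 0).lst P [nat_lit 122727, nat_lit 122589, nat_lit 122588, nat_lit 122369, nat_lit 122344, nat_lit 122063, nat_lit 122061, nat_lit 122038, nat_lit 122024, nat_lit 122023, nat_lit 121952, nat_lit 121912, nat_lit 121911, nat_lit 121898, nat_lit 121762, nat_lit 121450, nat_lit 121438, nat_lit 120950, nat_lit 120872, nat_lit 120871, nat_lit 120834, nat_lit 120833, nat_lit 120829, nat_lit 120820, nat_lit 120431, nat_lit 120376, nat_lit 120370, nat_lit 120164, nat_lit 119883, nat_lit 119870, nat_lit 119801, nat_lit 119779, nat_lit 119778, nat_lit 119776, nat_lit 119364, nat_lit 119363, nat_lit 119362, nat_lit 119359, nat_lit 119005, nat_lit 118914, nat_lit 118761, nat_lit 118760, nat_lit 118156, nat_lit 118155, nat_lit 117626, nat_lit 117625, nat_lit 117619, nat_lit 117611, nat_lit 117592, nat_lit 117457, nat_lit 117447, nat_lit 117359, nat_lit 117344, nat_lit 117343, nat_lit 117342, nat_lit 117330, nat_lit 117316, nat_lit 117281, nat_lit 117280, nat_lit 117278, nat_lit 117273, nat_lit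 117272, nat_lit 117271, nat_lit 117270, nat_lit 117269, nat_lit 117148, nat_lit 117129, nat_lit 117107, nat_lit 117106, nat_lit 117100, nat_lit 117090, nat_lit 117089, nat_lit 117088, nat_lit 117062, nat_lit 117044, nat_lit 117031, nat_lit 117030, nat_lit 117028, nat_lit 117019, nat_lit 117018, nat_lit 116928, nat_lit 116898, nat_lit 116897, nat_lit 116895, nat_lit 116893, nat_lit 116822, nat_lit 116817, nat_lit 116816, nat_lit 116815, nat_lit 116814, nat_lit 116804, nat_lit 116803, nat_lit 116559, nat_lit 116518, nat_lit 116143, nat_lit 116142, nat_lit 116089, nat_lit 116050, nat_lit 116049, nat_lit 115502, nat_lit 115455, nat_lit 115454, nat_lit 114836, nat_lit 114570, nat_lit 114565, nat_lit 114493, nat_lit 114492, nat_lit 114154, nat_lit 114153, nat_lit 113894, nat_lit 113893, nat_lit 113892, nat_lit 113886, nat_lit 113795, nat_lit 113762, nat_lit 113734, nat_lit 113733, nat_lit 113726, nat_lit 113725, nat_lit 113568, nat_lit 113460, nat_lit 113394, nat_lit 113350, nat_lit 113311, nat_lit 113310, nat_lit 113301, nat_lit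 113300, nat_lit 113242, nat_lit 113241, nat_lit 113230, nat_lit 113226, nat_lit 112773, nat_lit 112533, nat_lit 112362, nat_lit 112359, nat_lit 112358, nat_lit 112357, nat_lit 112356, nat_lit 112093, nat_lit 111622, nat_lit 110333, nat_lit 110321, nat_lit 110297, nat_lit 110259, nat_lit 110256, nat_lit 110255, nat_lit 110156, nat_lit 110155, nat_lit 110050, nat_lit 110049, nat_lit 109908, nat_lit 109882, nat_lit 109881, nat_lit 109731, nat_lit 109483, nat_lit 109482, nat_lit 109477, nat_lit 109198, nat_lit 109197, nat_lit 109186, nat_lit 108984, nat_lit 108983, nat_lit 108980, nat_lit 108979, nat_lit 108978, nat_lit 108947, nat_lit 108946, nat_lit 108941, nat_lit 108940, nat_lit 108939, nat_lit 108902, nat_lit 108899, nat_lit 108656, nat_lit 107922, nat_lit 107548, nat_lit 107523, nat_lit 107522, nat_lit 107460, nat_lit 107459, nat_lit 107458, nat_lit 105498, nat_lit 105497, nat_lit 105371, nat_lit 105370, nat_lit 105369, nat_lit 105325, nat_lit 105304, nat_lit 105303, nat_lit 105291, nat_lit 105290, nat_lit 105248, nat_lit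 105247, nat_lit 105079, nat_lit 105026, nat_lit 104608, nat_lit 104287, nat_lit 103853, nat_lit 103850, nat_lit 103841, nat_lit 102517, nat_lit 102516, nat_lit 102382, nat_lit 102381, nat_lit 102217, nat_lit 102216, nat_lit 102124, nat_lit 102112, nat_lit 102111, nat_lit 102106, nat_lit 102105, nat_lit 102040, nat_lit 102039, nat_lit 102031, nat_lit 101968, nat_lit 101959, nat_lit 101938, nat_lit 101850, nat_lit 101029, nat_lit 101028, nat_lit 101026, nat_lit 100812, nat_lit 100811, nat_lit 100561, nat_lit 100559, nat_lit 100512, nat_lit 100507, nat_lit 100505, nat_lit 100504, nat_lit 100443, nat_lit 100442, nat_lit 100374, nat_lit 100373, nat_lit 100206, nat_lit 100205, nat_lit 100204, nat_lit 99713, nat_lit 98505, nat_lit 98453, nat_lit 98452, nat_lit 98450, nat_lit 98449, nat_lit 98424, nat_lit 98422, nat_lit 98288, nat_lit 98287, nat_lit 98277, nat_lit 98276, nat_lit 98275, nat_lit 98274, nat_lit 98092, nat_lit 98091, nat_lit 98078, nat_lit 98077, nat_lit 98059, nat_lit 97992, nat_lit 97985, nat_lit 97977, nat_lit 97976,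 nat_lit 97670, nat_lit 97669, nat_lit 97374, nat_lit 96816, nat_lit 96815, nat_lit 96814, nat_lit 96812, nat_lit 96811, nat_lit 96805, nat_lit 96355, nat_lit 95976, nat_lit 95152, nat_lit 95058, nat_lit 95011, nat_lit 95010, nat_lit 94950, nat_lit 94949, nat_lit 94948, nat_lit 94862, nat_lit 94861, nat_lit 94860, nat_lit 94836, nat_lit 94835, nat_lit 94504, nat_lit 94422, nat_lit 94421, nat_lit 94420, nat_lit 94363, nat_lit 94362, nat_lit 93825, nat_lit 93824, nat_lit 93375, nat_lit 93374, nat_lit 92515, nat_lit 92514, nat_lit 92399, nat_lit 92398, nat_lit 91835, nat_lit 91834, nat_lit 91833, nat_lit 91761, nat_lit 91760, nat_lit 91115, nat_lit 91106, nat_lit 91105, nat_lit 91074, nat_lit 91073, nat_lit 91024, nat_lit 91023, nat_lit 91021, nat_lit 90935, nat_lit 90934, nat_lit 90928, nat_lit 90927, nat_lit 90828, nat_lit 90819, nat_lit 90809, nat_lit 90808, nat_lit 90735, nat_lit 90734, nat_lit 90698, nat_lit 90630, nat_lit 90629, nat_lit 90605, nat_lit 90574, nat_lit 90537, nat_lit 90505, nat_lit 90504, nat_lit 90470,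 nat_lit 90469, nat_lit 90467, nat_lit 90465, nat_lit 90463, nat_lit 90363, nat_lit 90362, nat_lit 90355, nat_lit 90354, nat_lit 90328, nat_lit 90234, nat_lit 90160, nat_lit 90159, nat_lit 90026, nat_lit 89988, nat_lit 89987, nat_lit 89975, nat_lit 89974, nat_lit 89970, nat_lit 89967, nat_lit 89966, nat_lit 89963, nat_lit 89418, nat_lit 89415, nat_lit 89414, nat_lit 89225, nat_lit 88349, nat_lit 88326, nat_lit 88325, nat_lit 88269, nat_lit 88268, nat_lit 88173, nat_lit 87019, nat_lit 87017, nat_lit 86944, nat_lit 86943, nat_lit 86410, nat_lit 86268, nat_lit 86267, nat_lit 85653, nat_lit 85652, nat_lit 85377, nat_lit 85372, nat_lit 85371, nat_lit 83987, nat_lit 83983, nat_lit 83982, nat_lit 83981, nat_lit 83980, nat_lit 83977, nat_lit 83665, nat_lit 83664, nat_lit 83613, nat_lit 83596, nat_lit 83595, nat_lit 83237, nat_lit 82892, nat_lit 82891, nat_lit 82664, nat_lit 82663, nat_lit 82661, nat_lit 82660, nat_lit 82657, nat_lit 82574, nat_lit 82559, nat_lit 82558, nat_lit 82466, nat_lit 82458, nat_lit 81595, nat_lit 81586,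 nat_lit 80495, nat_lit 80494, nat_lit 80166, nat_lit 80165, nat_lit 80164, nat_lit 80163, nat_lit 80124, nat_lit 76626, nat_lit 76625, nat_lit 76624, nat_lit 76330, nat_lit 76329, nat_lit 76328, nat_lit 76307, nat_lit 75890, nat_lit 75889, nat_lit 75888, nat_lit 75887, nat_lit 75492, nat_lit 75491, nat_lit 75485, nat_lit 75484, nat_lit 75105, nat_lit 75104, nat_lit 74788, nat_lit 74787, nat_lit 74786, nat_lit 74739, nat_lit 74738, nat_lit 74735, nat_lit 74678, nat_lit 74491, nat_lit 74490, nat_lit 74235, nat_lit 73328, nat_lit 72384, nat_lit 72383, nat_lit 72343, nat_lit 72342, nat_lit 72231, nat_lit 72228, nat_lit 72227, nat_lit 72224, nat_lit 72223, nat_lit 72093, nat_lit 72092, nat_lit 71908, nat_lit 71907, nat_lit 71395, nat_lit 71394, nat_lit 71393, nat_lit 71378, nat_lit 69703, nat_lit 69702, nat_lit 69532, nat_lit 69531, nat_lit 69460, nat_lit 69459, nat_lit 68342, nat_lit 68341, nat_lit 68340, nat_lit 67751, nat_lit 67729, nat_lit 67728, nat_lit 67139, nat_lit 65906, nat_lit 65898, nat_lit 65897, nat_lit 65282,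 nat_lit 65281, nat_lit 65279, nat_lit 65276, nat_lit 65061, nat_lit 64922, nat_lit 64921, nat_lit 64919, nat_lit 64918, nat_lit 64440, nat_lit 64439, nat_lit 64437, nat_lit 64436, nat_lit 64432, nat_lit 64428, nat_lit 64427, nat_lit 64378, nat_lit 64377, nat_lit 64375, nat_lit 64374, nat_lit 64373, nat_lit 64187, nat_lit 64186, nat_lit 63812, nat_lit 63811, nat_lit 61956, nat_lit 61896, nat_lit 61895, nat_lit 61746, nat_lit 61745, nat_lit 61744, nat_lit 61743, nat_lit 61457, nat_lit 61456, nat_lit 61453, nat_lit 61450, nat_lit 61443, nat_lit 61442, nat_lit 60850, nat_lit 60849, nat_lit 60457, nat_lit 60456, nat_lit 60454, nat_lit 60453, nat_lit 60448, nat_lit 60447, nat_lit 60434, nat_lit 60433, nat_lit 59999, nat_lit 59998, nat_lit 59997, nat_lit 58223, nat_lit 58222, nat_lit 58155, nat_lit 58154, nat_lit 57807, nat_lit 57806, nat_lit 57654, nat_lit 57616, nat_lit 57163, nat_lit 57128, nat_lit 57127, nat_lit 57060, nat_lit 57059, nat_lit 56682, nat_lit 56341, nat_lit 55594, nat_lit 55593, nat_lit 55436, nat_lit 55435,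 nat_lit 55381, nat_lit 55380, nat_lit 54764, nat_lit 54561, nat_lit 54560, nat_lit 54502, nat_lit 54501, nat_lit 54376, nat_lit 54375, nat_lit 54374, nat_lit 54372, nat_lit 54371, nat_lit 54370, nat_lit 54270, nat_lit 54269, nat_lit 54165, nat_lit 54164, nat_lit 54019, nat_lit 54017, nat_lit 54016, nat_lit 54015, nat_lit 53611, nat_lit 53609, nat_lit 53608, nat_lit 53603, nat_lit 51714, nat_lit 51713, nat_lit 50508, nat_lit 50507, nat_lit 50503, nat_lit 49492, nat_lit 49489, nat_lit 49488, nat_lit 49487, nat_lit 49485, nat_lit 49484, nat_lit 49483, nat_lit 48295, nat_lit 48294, nat_lit 48022, nat_lit 48021, nat_lit 48019, nat_lit 48018, nat_lit 47888, nat_lit 47885, nat_lit 47826, nat_lit 47825, nat_lit 45992, nat_lit 45991, nat_lit 45952, nat_lit 45951, nat_lit 45950, nat_lit 45543, nat_lit 45542, nat_lit 43099, nat_lit 43098, nat_lit 42896, nat_lit 42595, nat_lit 42594, nat_lit 42593, nat_lit 42592, nat_lit 41820, nat_lit 41777, nat_lit 40021, nat_lit 40020, nat_lit 39894, nat_lit 39893, nat_lit 39890, nat_lit 39782,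 nat_lit 39781, nat_lit 39370, nat_lit 39369, nat_lit 37571, nat_lit 37570, nat_lit 37096, nat_lit 37095, nat_lit 36854, nat_lit 36853, nat_lit 36146, nat_lit 36145, nat_lit 36141, nat_lit 35783, nat_lit 35782, nat_lit 35781, nat_lit 35779, nat_lit 35778, nat_lit 35777, nat_lit 35557, nat_lit 35556, nat_lit 35274, nat_lit 35273, nat_lit 35271, nat_lit 35270, nat_lit 35244, nat_lit 35243, nat_lit 33506, nat_lit 33505, nat_lit 33374, nat_lit 33373, nat_lit 33183, nat_lit 33182, nat_lit 33181, nat_lit 33177, nat_lit 32636, nat_lit 32635, nat_lit 32633, nat_lit 32632, nat_lit 32336, nat_lit 32335, nat_lit 30359, nat_lit 30358, nat_lit 29461, nat_lit 29460, nat_lit 28710, nat_lit 28709, nat_lit 28522, nat_lit 28521, nat_lit 28301, nat_lit 28300, nat_lit 26666, nat_lit 26087, nat_lit 26086, nat_lit 24987, nat_lit 24986, nat_lit 24921, nat_lit 23768, nat_lit 23767, nat_lit 21649, nat_lit 21648, nat_lit 20230, nat_lit 18459, nat_lit 18257, nat_lit 18256, nat_lit 17971, nat_lit 17970, nat_lit 16748, nat_lit 16478, nat_lit 16477]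 122760 = 0 := by decide +kernel
theorem lc : lowChk P 122760 10 [lv0 0, lv1 0, lv2 0] [] = 0 ∧ prodN [lv0 0, lv1 0, lv2 0] = 460815505920 ∧ 0 < 460815505920 := by decide +kernel

end H16.TON
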