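import Cfsg.Agent.H16.Tab
import Cfsg.Agent.H16.P.ON
import Cfsg.Agent.H16.T.ON.R0
import Cfsg.Agent.H16.T.ON.R1
import Cfsg.Agent.H16.T.ON.R2

/-! Generated by tools/h16 (computation kit). -/

set_option maxRecDepth 100000
set_option maxHeartbeats 0

namespace H16.TON

open H26 (jn)
noncomputable def Ws : List (List ℕ) := [[nat_lit 0],
  [nat_lit 1],
  [nat_lit 2],
  [nat_lit 3],
  [nat_lit 4],
  [nat_lit 5],
  [nat_lit 6],
  [nat_lit 7],
  [nat_lit 3, nat_lit 0, nat_lit 4, nat_lit 1, nat_lit 0, nat_lit 1, nat_lit 5, nat_lit 6, nat_lit 4, nat_lit 0, nat_lit 6, nat_lit 1, nat_lit 5, nat_lit 6, nat_lit 5, nat_lit 0, nat_lit 2, nat_lit 4, nat_lit 2, nat_lit 1, nat_lit 0, nat_lit 4, nat_lit 5, nat_lit 1, nat_lit 0, nat_lit 2, nat_lit 4, nat_lit 5, nat_lit 2, nat_lit 1, nat_lit 4, nat_lit 5, nat_lit 0, nat_lit 1, nat_lit 0, nat_lit 4, nat_lit 0, nat_lit 1, nat_lit 5, nat_lit 1, nat_lit 3, nat_lit 5],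
  [nat_lit 4, nat_lit 1, nat_lit 0, nat_lit 6, nat_lit 1, nat_lit 5, nat_lit 4, nat_lit 6, nat_lit 0, nat_lit 1, nat_lit 5, nat_lit 0, nat_lit 4, nat_lit 0, nat_lit 6, nat_lit 1, nat_lit 0, nat_lit 4, nat_lit 1, nat_lit 0, nat_lit 5, nat_lit 4, nat_lit 1, nat_lit 0, nat_lit 2, nat_lit 4, nat_lit 5, nat_lit 1, nat_lit 0, nat_lit 1, nat_lit 0, nat_lit 4, nat_lit 2, nat_lit 5, nat_lit 1, nat_lit 0, nat_lit 1, nat_lit 5]]
noncomputable def Ts : List BT := [t0, t1, t2, t3, t4, t5, t6, t7, t8, t9]
noncomputable def P : ℕ → ℕ → ℕ := slP Ts (nat_lit 0x10000000000000000000000000000000000000000000000000000000000000001000000000000000000000000000000000000000000000000000000000000000100000000000000000000000000000000000000000000000000000000000000010000000000000000000000000000000000000000000000000000000000000001000000000000000000000000000000000000000000000000000000000000000100000000000000000000000000000000000000000000000000000000000000010000000000000000000000000000000000000000000000000000000000000001000000000000000000000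000000000000000000000000000000000000000000100000000000000000000000000000000000000000000000000000000000000010000000000000000000000000000000000000000000000000000000000000001000000000000000000000000000000000000000000000000000000000000000100000000000000000000000000000000000000000000000000000000000000010000000000000000000000000000000000000000000000000000000000000001000000000000000000000000000000000000000000000000000000000000000100000000000000000000000000000000000000000000000000000000000000010000000000000000000000000000000000000000000000000000000000000001)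
/-- the letters -/
noncomputable def g : ℕ → Equiv.Perm ℕ := wds H16.PON.T.π Ws
noncomputable def B : List ℕ := [nat_lit 0, nat_lit 12, nat_lit 29460]
noncomputable def F0 (u : ℕ) : ℕ := force (Nat.shiftRight u (nat_lit 10)) fun j => Nat.land (Nat.shiftRight (F0d.get j) (Nat.mul (Nat.land u (nat_lit 1023)) (nat_lit 4))) (nat_lit 15)
noncomputable def lv0 (a : ℕ) : Lv := ⟨a, (nat_lit 0), (nat_lit 122760), (nat_lit 10), [[nat_lit 0],
  [nat_lit 1],
  [nat_lit 2],
  [nat_lit 3],
  [nat_lit 4],
  [nat_lit 5],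
  [nat_lit 6],
  [nat_lit 7],
  [nat_lit 8],
  [nat_lit 9]], fun u => Nat.add (F0 u) (nat_lit 10), (nat_lit 9)⟩
noncomputable def F1 (u : ℕ) : ℕ := force (Nat.shiftRight u (nat_lit 9)) fun j => Nat.land (Nat.shiftRight (F1d.get j) (Nat.mul (Nat.land u (nat_lit 511)) (nat_lit 8))) (nat_lit 255)
noncomputable def lv1 (a : ℕ) : Lv := ⟨a, (nat_lit 12), (nat_lit 5586), (nat_lit 6), [[nat_lit 0],
  [nat_lit 1],
  [nat_lit 2],
  [nat_lit 3],
  [nat_lit 4],
  [nat_lit 5]], F1, (nat_lit 39)⟩
noncomputable def F2 (u : ℕ) : ℕ := force (Nat.shiftRight u (nat_lit 9)) fun j => Nat.land (Nat.shiftRight (F2d.get j) (Nat.mul (Nat.land u (nat_lit 511)) (nat_lit 7))) (nat_lit 127)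
noncomputable def lv2 (a : ℕ) : Lv := ⟨a, (nat_lit 29460), (nat_lit 672), (nat_lit 5), [[nat_lit 0],
  [nat_lit 1],
  [nat_lit 2],
  [nat_lit 3],
  [nat_lit 4]], F2, (nat_lit 13)⟩

end H16.TON
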